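import Groth.Agent.TorSmooth2Lib.Alg
import Groth.Agent.TorSmoothLib.Main
import Groth.Agent.RelAmpBCLib.Main
import Groth.Agent.RelFlatLib.SmoothAmp

/-!
# Tor amplitude over a smooth scheme

Without finiteness hypotheses: tor amplitude `[a, b]` over the base gives `[a - n, b]` over a scheme smooth of
relative dimension `n`.
-/

set_option autoImplicit false
set_option linter.style.haveILetI false
set_option backward.isDefEq.respectTransparency false
set_option backward.isDefEq.respectTransparency.types false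
set_option maxHeartbeats 1000000

universe u

open CategoryTheory CategoryTheory.Limits AlgebraicGeometry HomologicalComplex MonoidalCategory TensorProduct
open Groth.Agent
open TwoTermLib.RelAmp (resCx)

attribute [local instance] HasDerivedCategory.standard

namespace Groth.Agent.TorSmooth2Lib

variable {X Y S : Scheme.{u}}

/-- A morphism from a flat scheme to a scheme smooth of relative dimension `n` has tor dimension at most `n`. -/
theorem hasTorDimLE_of_smooth (f : X ⟶ Y) (p : X ⟶ S) (q : Y ⟶ S) (hf : f ≫ q = p) (n : ℕ)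
    [SmoothOfRelativeDimension n q] [Flat p] : DerSch.HasTorDimLE f n := by
  subst hf
  intro x
  obtain ⟨U, hU, V, hV, hxV, e, hs⟩ :=
    SmoothOfRelativeDimension.exists_isStandardSmoothOfRelativeDimension (n := n) (f := q) (f.base x)
  obtain ⟨W, hW, hxW, hWV⟩ := exists_isAffineOpen_mem_and_subset (x := x) (U := f ⁻¹ᵁ V) hxV
  have e' : W ≤ f ⁻¹ᵁ V := hWV
  have e'' : W ≤ (f ≫ q) ⁻¹ᵁ U := fun w hw => e (e' hw)
  refine TorSmoothLib.ampAt_of_FD f hW hV e' n ?_ x hxW
  letI := (q.appLE U V e).hom.toAlgebra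
  letI := (f.appLE V W e').hom.toAlgebra
  letI := ((f ≫ q).appLE U W e'').hom.toAlgebra
  haveI : IsScalarTower Γ(S, U) Γ(Y, V) Γ(X, W) := IsScalarTower.of_algebraMap_eq fun a =>
    (congrArg (fun φ => φ.hom a) (Scheme.Hom.appLE_comp_appLE f q U V W e e')).symm
  haveI : Module.Flat Γ(S, U) Γ(X, W) := Flat.flat_appLE (f ≫ q) hU hW e''
  haveI : Algebra.IsStandardSmoothOfRelativeDimension n Γ(S, U) Γ(Y, V) := hs
  exact fd_of_smooth Γ(S, U) Γ(Y, V) Γ(X, W) n

theorem ampAt_congr {f f' : X ⟶ Y} (h : f = f') {a b : ℤ} {F : CochainComplex X.Modules ℤ} {x : X}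
    (hF : DerSch.HasTorAmplitudeAt f a b F x) : DerSch.HasTorAmplitudeAt f' a b F x := by
  subst h; exact hF

/-- Tor amplitude over a scheme smooth of relative dimension `n` over the base, for K-flat complexes. -/
theorem ampAt_id_of_smooth (g : Y ⟶ S) (n : ℕ) [SmoothOfRelativeDimension n g]
    {P : CochainComplex Y.Modules ℤ} (hP : DCoh.IsKFlat P) {a b : ℤ} {y : Y}
    (h : DerSch.HasTorAmplitudeAt g a b P y) : DerSch.HasTorAmplitudeAt (𝟙 Y) (a - n) b P y := by
  haveI : Smooth g := SmoothOfRelativeDimension.smooth n g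
  haveI := smoothOfRelativeDimension_isStableUnderBaseChange n
  haveI : SmoothOfRelativeDimension n (pullback.fst g g) :=
    MorphismProperty.pullback_fst (P := @SmoothOfRelativeDimension n) _ _ ‹_›
  let p₁ := pullback.fst g g
  let p₂ := pullback.snd g g
  let δ := pullback.diagonal g
  have hδ₁ : δ ≫ p₁ = 𝟙 Y := pullback.diagonal_fst g
  have hδ₂ : δ ≫ p₂ = 𝟙 Y := pullback.diagonal_snd g
  have hdim : DerSch.HasTorDimLE δ n := hasTorDimLE_of_smooth δ (𝟙 Y) p₁ hδ₁ n
  have hc : IsPullback p₂ p₁ g g := (IsPullback.of_hasPullback g g).flip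
  let x' := δ.base y
  have h' : DerSch.HasTorAmplitudeAt g a b P (p₂.base x') := by
    have hy : p₂.base x' = y := congrArg (fun φ : Y ⟶ Y => φ.base y) hδ₂
    rw [hy]; exact h
  have h1 : DerSch.HasTorAmplitudeAt p₁ a b ((KFlatLib.pullCx p₂).obj P) x' := by
    refine DRingLib.hasTorAmplitudeIn_of_iso
      (DerivedCategory.Q.mapIso (RelFlatLib.stalkOverPullIso p₂ p₁ x' P)).symm ?_
    letI := (g.stalkMap (p₂.base x')).hom.toAlgebra
    letI := (BaseAmpLib.baseMap hc x').toAlgebra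
    exact RelAmpBCLib.amp_baseChange _ _ _ _ _
      (BaseAmpLib.isPushSq_tensor (g.stalkMap (p₂.base x')).hom (BaseAmpLib.baseMap hc x'))
      (Flat.stalkMap g (p₂.base x')) (BaseAmpLib.stalkLift hc x') (BaseAmpLib.flat_stalkLift hc x') _ _
      (RingHom.ext fun z => by
        show BaseAmpLib.stalkLift hc x' ((1 : Y.presheaf.stalk (p₁.base x')) ⊗ₜ z) = (p₂.stalkMap x').hom z
        rw [BaseAmpLib.stalkLift_tmul]
        simp)
      (RingHom.ext fun z => by
        show BaseAmpLib.stalkLift hc x' (z ⊗ₜ (1 : Y.presheaf.stalk (p₂.base x'))) = (p₁.stalkMap x').hom z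
        rw [BaseAmpLib.stalkLift_tmul]
        simp)
      (KFlatLib.stalks_isKFlat hP _) h'
  have h2 : DerSch.HasTorAmplitudeAt (δ ≫ p₁) (a - n) b
      ((KFlatLib.pullCx δ).obj ((KFlatLib.pullCx p₂).obj P)) y :=
    DRingLib.hasTorAmplitudeIn_of_iso
      (DerivedCategory.Q.mapIso (RelFlatLib.stalkOverPullIso δ (δ ≫ p₁) y ((KFlatLib.pullCx p₂).obj P))).symm
      (RelFlatLib.amp_res_extCx (p₁.stalkMap x').hom (δ.stalkMap y).hom
        (by rw [Scheme.Hom.stalkMap_comp]; rfl) (RelFlatLib.amp_stalk_algebra δ y hdim)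
        (KFlatLib.stalks_isKFlat (KFlatLib.isKFlat_pull p₂ hP) _) h1)
  refine ampAt_congr hδ₁ (RelFlatLib.ampAt_of_iso _ (DerivedCategory.Q.mapIso ?_) h2)
  exact (NatIso.mapHomologicalComplex (Scheme.Modules.pullbackComp δ p₂ ≪≫
    Scheme.Modules.pullbackCongr hδ₂ ≪≫ Scheme.Modules.pullbackId Y) (ComplexShape.up ℤ)).app P ≪≫
      (Functor.mapHomologicalComplexIdIso _ _).app P

/-- Tor amplitude over a scheme smooth of relative dimension `n` over the base. -/
theorem ampD_id_of_smooth (g : Y ⟶ S) (n : ℕ) [SmoothOfRelativeDimension n g] (y : Y)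
    {K : DCoh.D Y} {a b : ℤ} (h : RelFlatLib.AmpD g a b K y) : RelFlatLib.AmpD (𝟙 Y) (a - n) b K y := by
  obtain ⟨P, hP, ⟨e⟩⟩ := KFlatLib.exists_good_rep K
  exact (RelFlatLib.ampD_rep _ e y).2 (ampAt_id_of_smooth g n hP.1 ((RelFlatLib.ampD_rep g e y).1 h))

/-- The amplitude of a direct image into a smooth scheme. -/
theorem ampD_push (i : X ⟶ Y) [IsClosedImmersion i] (g : Y ⟶ S) [Smooth g]
    {a b : ℤ} (F : CochainComplex X.Modules ℤ) (W : Y.Opens) (d : ℕ)
    (hd : ∀ y : Y, y ∈ W → ∃ (n : ℕ) (V : Y.Opens), n ≤ d ∧ y ∈ V ∧ SmoothOfRelativeDimension n (V.ι ≫ g))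
    (hamp : ∀ x : X, i x ∈ W → DerSch.HasTorAmplitudeAt (i ≫ g) a b F x) :
    ∀ y : Y, y ∈ W → RelFlatLib.AmpD (𝟙 Y) (a - d) b
      (DCoh.toD Y (((Scheme.Modules.pushforward i).mapHomologicalComplex (ComplexShape.up ℤ)).obj F)) y := by
  intro y hyW
  let P := ((Scheme.Modules.pushforward i).mapHomologicalComplex (ComplexShape.up ℤ)).obj F
  have hg : RelFlatLib.AmpD g a b (DCoh.toD Y P) y := (RelFlatLib.ampD_rep g (Iso.refl _) y).2 (by
    by_cases hy : y ∈ Set.range ⇑i
    · obtain ⟨x, rfl⟩ := hy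
      exact (RelFlatLib.ampAt_push_iff i g x a b F).2 (hamp x hyW)
    · exact RelFlatLib.ampAt_push_zero i g F hy a b)
  obtain ⟨n, V, hn, hy, hV⟩ := hd y hyW
  haveI := hV
  have h1 := ampD_id_of_smooth (V.ι ≫ g) n ⟨y, hy⟩
    ((RelFlatLib.ampD_res_iff V.ι g ⟨y, hy⟩ a b _).2 hg)
  exact RelFlatLib.ampD_mono _ (by omega) le_rfl ((RelFlatLib.ampD_id_res_iff V.ι ⟨y, hy⟩ (a - n) b _).1 h1)

end Groth.Agent.TorSmooth2Lib
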