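import Groth.Agent.PerfModLib.Trans
import Groth.Agent.PerfModLib.Poly
import Mathlib.RingTheory.RingHom.StandardSmooth
import Mathlib.RingTheory.Etale.Basic
import Mathlib.RingTheory.Smooth.Flat

/-! Tor dimension of a flat algebra factoring through a smooth algebra, without finiteness hypotheses. -/

set_option autoImplicit false
set_option maxHeartbeats 1000000
set_option linter.style.haveILetI false

universe u

open TensorProduct

namespace Groth.Agent.TorSmooth2Lib

/-- An étale algebra does not raise the tor dimension of its algebras over the base. -/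
theorem fd_of_etale {P B C : Type u} [CommRing P] [CommRing B] [CommRing C] [Algebra P B] [Algebra P C]
    [Algebra B C] [IsScalarTower P B C] [Algebra.Etale P B] {n : ℕ} (h : DiagLib.FD P n C) :
    DiagLib.FD B n C := by
  haveI : Algebra.Smooth P B := inferInstance
  haveI : Module.Flat P B := inferInstance
  have hD : DiagLib.FD B n (B ⊗[P] C) := PerfModLib.fd_baseChange (B := B) n C h
  let π : B ⊗[P] C →ₐ[P] C := Algebra.TensorProduct.lift (IsScalarTower.toAlgHom P B C) (AlgHom.id P C)
    (fun _ _ => Commute.all _ _)
  have hπ : ∀ (b : B) (c : C), π (b ⊗ₜ c) = algebraMap B C b * c := fun b c => by simp [π]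
  letI : Algebra C (B ⊗[P] C) := Algebra.TensorProduct.rightAlgebra
  letI : Algebra (B ⊗[P] C) C := π.toRingHom.toAlgebra
  haveI : IsScalarTower B (B ⊗[P] C) C := IsScalarTower.of_algebraMap_eq fun b => by
    show algebraMap B C b = π (algebraMap B (B ⊗[P] C) b)
    rw [Algebra.TensorProduct.algebraMap_apply, Algebra.algebraMap_self, RingHom.id_apply, hπ, mul_one]
  haveI : IsScalarTower C (B ⊗[P] C) C := IsScalarTower.of_algebraMap_eq fun c => by
    show algebraMap C C c = π ((1 : B) ⊗ₜ c)
    rw [hπ, map_one, one_mul, Algebra.algebraMap_self, RingHom.id_apply]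
  haveI : Algebra.Etale C (B ⊗[P] C) := Algebra.Etale.of_equiv
    ({ (Algebra.TensorProduct.comm P C B).toRingEquiv with
        commutes' := fun c => Algebra.TensorProduct.comm_tmul P c (1 : B) } :
      C ⊗[P] B ≃ₐ[C] B ⊗[P] C)
  haveI : Algebra.Etale (B ⊗[P] C) C := Algebra.Etale.of_restrictScalars C (B ⊗[P] C) C
  haveI : Module.Flat (B ⊗[P] C) C := inferInstance
  exact PerfModLib.fd_trans hD 0 C (show Module.Flat (B ⊗[P] C) C from inferInstance)

/-- A flat algebra over the base has tor dimension at most `n` over a smooth algebra of relative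
dimension `n` through which it factors. -/
theorem fd_of_smooth (A B C : Type u) [CommRing A] [CommRing B] [CommRing C] [Algebra A B] [Algebra A C]
    [Algebra B C] [IsScalarTower A B C] [Module.Flat A C] (n : ℕ)
    [Algebra.IsStandardSmoothOfRelativeDimension n A B] : DiagLib.FD B n C := by
  obtain ⟨g, hg⟩ := Algebra.IsStandardSmoothOfRelativeDimension.exists_etale_mvPolynomial A B (n := n)
  letI : Algebra (MvPolynomial (Fin n) A) B := g.toRingHom.toAlgebra
  letI : Algebra (MvPolynomial (Fin n) A) C := ((algebraMap B C).comp g.toRingHom).toAlgebra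
  haveI : IsScalarTower (MvPolynomial (Fin n) A) B C := IsScalarTower.of_algebraMap_eq fun _ => rfl
  haveI : IsScalarTower A (MvPolynomial (Fin n) A) C := IsScalarTower.of_algebraMap_eq fun a =>
    (IsScalarTower.algebraMap_apply A B C a).trans (congrArg (algebraMap B C) (g.commutes a).symm)
  haveI : Algebra.Etale (MvPolynomial (Fin n) A) B := hg
  have h := PerfModLib.fd_mvPolynomial A n 0 C (show Module.Flat A C from inferInstance)
  rw [Nat.zero_add] at h
  exact fd_of_etale h

end Groth.Agent.TorSmooth2Lib
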